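import Groth.Prelude.Def_EGA4b
import Groth.Agent.LocCoh.Connected
import Groth.Agent.CMCat.Basic
import Groth.Agent.EGA4Lib.CompleteExcellent
import Groth.Agent.RegLoc.Completion
import Groth.Agent.Adic.Basic
import Groth.Agent.EtStruct.Completion
import Mathlib

/-!
# Formally catenary local rings are universally catenary
-/

set_option autoImplicit false

universe u

open IsLocalRing

namespace Groth.Agent.Catenary61

open PtTop.Catenary

/-- In a catenary poset comparable elements are joined by a saturated series. -/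
theorem exists_saturated {P : Type u} [PartialOrder P] (h : Cat P) {p q : P} (hpq : p ≤ q) :
    ∃ s : LTSeries P, s.head = p ∧ s.last = q ∧ Saturated s := by
  obtain ⟨n, hn⟩ := h.1 p q hpq
  let T : Set ℕ := {m | ∃ r : LTSeries P, r.head = p ∧ r.last = q ∧ r.length = m}
  have hT : T.Nonempty := by
    rcases eq_or_lt_of_le hpq with he | hlt
    · exact ⟨_, RelSeries.singleton _ p, rfl, he, rfl⟩
    · exact ⟨_, (RelSeries.singleton _ p).snoc q hlt, rfl, RelSeries.last_snoc _ _ _, rfl⟩
  have hbdd : BddAbove T := ⟨n, fun m ⟨r, h1, h2, h3⟩ => h3 ▸ hn r h1 h2⟩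
  obtain ⟨c, hc1, hc2, hc3⟩ := Nat.sSup_mem hT hbdd
  exact ⟨c, hc1, hc2, saturated_of_longest c fun u h1 h2 => hc3 ▸ le_csSup hbdd ⟨u, h1.trans hc1, h2.trans hc2, rfl⟩⟩

/-- A longest series ending at a prime starts at a minimal prime and is saturated. -/
theorem exists_series {R : Type u} [CommRing R] [IsNoetherianRing R] (q : PrimeSpectrum R) :
    ∃ s : LTSeries (PrimeSpectrum R), s.last = q ∧ (s.length : ℕ∞) = q.asIdeal.height ∧ Saturated s ∧
      s.head.asIdeal ∈ minimalPrimes R := by
  obtain ⟨s, hl, hlen⟩ := q.asIdeal.exists_ltSeries_length_eq_height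
  have hl' : s.last = q := hl
  have hmax : ∀ t : LTSeries (PrimeSpectrum R), t.last = q → t.length ≤ s.length := fun t ht => by
    have : (t.length : ℕ∞) ≤ q.asIdeal.height := by
      rw [q.height_eq_orderHeight, ← ht]
      exact Order.length_le_height_last
    rw [← hlen] at this
    exact_mod_cast this
  refine ⟨s, hl', hlen, saturated_of_longest s fun t _ h2 => hmax t (h2.trans hl'),
    ⟨s.head.2, bot_le⟩, fun p ⟨hp, _⟩ hle => ?_⟩
  by_contra hne
  have hlt : (⟨p, hp⟩ : PrimeSpectrum R) < s.head := lt_of_le_not_ge hle hne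
  have := hmax (s.cons _ hlt) (by rw [RelSeries.last_cons, hl'])
  simp at this

/-- In an equidimensional catenary local ring every minimal prime below `q` starts a series of maximal length. -/
theorem exists_series_of_minimal {R : Type u} [CommRing R] [IsLocalRing R] [IsNoetherianRing R]
    (hcat : CAlg.IsCatenary R) (heq : EGA4.IsEquidim R) (p q : PrimeSpectrum R)
    (hp : p.asIdeal ∈ minimalPrimes R) (hpq : p ≤ q) :
    ∃ s : LTSeries (PrimeSpectrum R), s.head = p ∧ s.last = q ∧ (s.length : ℕ∞) = q.asIdeal.height := by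
  choose c hc1 hc2 hc3 hc4 using fun x => LocCoh.exists_longest_chain hcat x
  let r : PrimeSpectrum R → ℤ := fun x => -((c x).length : ℤ)
  have hr : ∀ a b : PrimeSpectrum R, a ⋖ b → r b = r a + 1 := fun a b h => by
    have h1 := LocCoh.ringKrullDim_quotient_covBy hcat h
    rw [← hc4 a, ← hc4 b] at h1
    have h2 : (c a).length = (c b).length + 1 := by exact_mod_cast h1
    simp only [r, h2]
    push_cast
    ring
  obtain ⟨s, hs1, hs2, hs3⟩ := exists_saturated hcat hpq
  obtain ⟨t, ht1, ht2, ht3, ht4⟩ := exists_series q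
  have e1 := length_eq_rank_sub r hr s hs3
  have e2 := length_eq_rank_sub r hr t ht3
  have h0 : r p = r t.head := by
    have h1 : ((c p).length : WithBot ℕ∞) = (c t.head).length := by
      rw [hc4, hc4, heq _ hp, heq _ ht4]
    have h2 : (c p).length = (c t.head).length := by exact_mod_cast h1
    simp only [r, h2]
  rw [hs1, hs2, h0] at e1
  rw [ht1] at e2
  refine ⟨s, hs1, hs2, ?_⟩
  rw [← ht2, show s.length = t.length by omega]

/-- Polynomials over a catenary equidimensional local ring: height goes up by one along covers. -/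
theorem height_covBy_polynomial {R : Type u} [CommRing R] [IsLocalRing R] [IsNoetherianRing R]
    (hcat : CAlg.IsCatenary R) (n : ℕ) (hcatT : CAlg.IsCatenary (MvPolynomial (Fin n) R))
    (heq : EGA4.IsEquidim R) (P Q : PrimeSpectrum (MvPolynomial (Fin n) R)) (h : P ⋖ Q) :
    Q.asIdeal.height = P.asIdeal.height + 1 := by
  let T := MvPolynomial (Fin n) R
  have hprime : ∀ x : PrimeSpectrum R, (x.asIdeal.map (MvPolynomial.C : R →+* T)).IsPrime := fun x => by
    rw [show x.asIdeal.map (MvPolynomial.C : R →+* T) =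
      RingHom.ker (MvPolynomial.map (Ideal.Quotient.mk x.asIdeal) : T →+* MvPolynomial (Fin n) (R ⧸ x.asIdeal)) by
      rw [MvPolynomial.ker_map, Ideal.mk_ker]]
    exact RingHom.ker_isPrime _
  let up : PrimeSpectrum R → PrimeSpectrum T := fun x => ⟨_, hprime x⟩
  have hcomap : ∀ x : PrimeSpectrum R, (up x).asIdeal.comap MvPolynomial.C = x.asIdeal := fun x => by
    refine le_antisymm (fun a ha => ?_) Ideal.le_comap_map
    have h1 := MvPolynomial.mem_map_C_iff.mp ha 0
    simpa using h1
  have hmono : StrictMono up := fun a b hab => lt_of_le_of_ne (Ideal.map_mono hab.le) fun he => hab.ne (by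
    refine PrimeSpectrum.ext ?_
    rw [← hcomap a, ← hcomap b, he])
  have key : ∀ (x P₀ : PrimeSpectrum T), P₀.asIdeal ∈ minimalPrimes T → P₀ ≤ x →
      ∃ s : LTSeries (PrimeSpectrum T), s.head = P₀ ∧ s.last = x ∧ (s.length : ℕ∞) = x.asIdeal.height := by
    intro x P₀ hP₀ hle
    let q : PrimeSpectrum R := PrimeSpectrum.comap (MvPolynomial.C : R →+* T) x
    let p₀ : PrimeSpectrum R := PrimeSpectrum.comap (MvPolynomial.C : R →+* T) P₀
    have hup : up p₀ = P₀ := by
      refine PrimeSpectrum.ext (le_antisymm Ideal.map_comap_le (hP₀.2 ⟨hprime p₀, bot_le⟩ Ideal.map_comap_le))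
    have hp₀ : p₀.asIdeal ∈ minimalPrimes R := by
      refine ⟨⟨p₀.2, bot_le⟩, fun p ⟨hp, _⟩ hpp => ?_⟩
      have h1 : (up ⟨p, hp⟩).asIdeal ≤ P₀.asIdeal := (Ideal.map_mono hpp).trans Ideal.map_comap_le
      have h2 := Ideal.comap_mono (f := (MvPolynomial.C : R →+* T))
        (hP₀.2 ⟨(up ⟨p, hp⟩).2, bot_le⟩ h1)
      rw [hcomap] at h2
      exact h2
    obtain ⟨t, ht1, ht2, ht3⟩ := exists_series_of_minimal hcat heq p₀ q hp₀ (Ideal.comap_mono hle)
    let π := Ideal.Quotient.mk (up q).asIdeal
    have hqx : (up q).asIdeal ≤ x.asIdeal := Ideal.map_comap_le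
    have : (x.asIdeal.map π).IsPrime :=
      Ideal.map_isPrime_of_surjective Ideal.Quotient.mk_surjective (by rwa [Ideal.mk_ker])
    obtain ⟨l, hl1, hl2, -, hl4⟩ := exists_series (⟨x.asIdeal.map π, inferInstance⟩ : PrimeSpectrum (T ⧸ (up q).asIdeal))
    have hlh : l.head.asIdeal = ⊥ := le_bot_iff.mp (hl4.2 ⟨Ideal.isPrime_bot, bot_le⟩ bot_le)
    let l' := l.map (PrimeSpectrum.comap π) (RingHom.strictMono_comap_of_surjective Ideal.Quotient.mk_surjective)
    let t' := t.map up hmono
    have hjoin : t'.last = l'.head := by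
      rw [LTSeries.last_map, ht2, LTSeries.head_map]
      refine PrimeSpectrum.ext ?_
      rw [PrimeSpectrum.comap_asIdeal, hlh]
      exact Ideal.mk_ker.symm
    let s := t'.smash l' hjoin
    have hs1 : s.head = P₀ := by
      rw [RelSeries.head_smash, LTSeries.head_map, ht1, hup]
    have hs2 : s.last = x := by
      rw [RelSeries.last_smash, LTSeries.last_map, hl1]
      refine PrimeSpectrum.ext ?_
      show (x.asIdeal.map π).comap π = x.asIdeal
      rw [Ideal.comap_map_of_surjective' _ Ideal.Quotient.mk_surjective, Ideal.mk_ker, sup_eq_left.mpr hqx]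
    refine ⟨s, hs1, hs2, ?_⟩
    have : x.asIdeal.LiesOver q.asIdeal := ⟨rfl⟩
    rw [Ideal.height_eq_height_add_of_liesOver_of_hasGoingDown q.asIdeal x.asIdeal, ← ht3]
    show ((t'.length + l'.length : ℕ) : ℕ∞) = _
    rw [Nat.cast_add]
    exact congrArg _ hl2
  obtain ⟨a, -, -, -, hamin⟩ := exists_series P
  obtain ⟨p₀, hp₀, hle⟩ := Ideal.exists_minimalPrimes_le (I := (⊥ : Ideal T)) (J := P.asIdeal) bot_le
  let P₀ : PrimeSpectrum T := ⟨p₀, hp₀.1.1⟩
  obtain ⟨s, hs1, hs2, hs3⟩ := key P P₀ hp₀ hle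
  obtain ⟨t, ht1, ht2, ht3⟩ := key Q P₀ hp₀ (le_trans (show P₀ ≤ P from hle) h.le)
  have hmax : ∀ (y : PrimeSpectrum T) (u : LTSeries (PrimeSpectrum T)),
      (u.length : ℕ∞) = y.asIdeal.height → u.last = y → Saturated u := fun y u hu hy =>
    saturated_of_longest u fun v _ hv => by
      have h1 : (v.length : ℕ∞) ≤ y.asIdeal.height := by
        rw [y.height_eq_orderHeight, ← hy, ← hv]
        exact Order.length_le_height_last
      rw [← hu] at h1
      exact_mod_cast h1
  have hsat := hmax P s hs3 hs2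
  let s' : LTSeries (PrimeSpectrum T) := ⟨s.length + 1, Fin.snoc s.toFun Q, fun i => by
    induction i using Fin.lastCases with
    | last =>
      show Fin.snoc (α := fun _ => PrimeSpectrum T) s.toFun Q (Fin.last s.length).castSucc < Fin.snoc (α := fun _ => PrimeSpectrum T) s.toFun Q (Fin.last s.length).succ
      rw [Fin.snoc_castSucc, Fin.succ_last, Fin.snoc_last]
      rw [show s.toFun (Fin.last _) = P from hs2]
      exact h.lt
    | cast i =>
      show Fin.snoc (α := fun _ => PrimeSpectrum T) s.toFun Q i.castSucc.castSucc < Fin.snoc (α := fun _ => PrimeSpectrum T) s.toFun Q i.castSucc.succ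
      rw [Fin.snoc_castSucc, ← Fin.castSucc_succ, Fin.snoc_castSucc]
      exact s.step i⟩
  have hs' : Saturated s' := by
    intro i
    induction i using Fin.lastCases with
    | last =>
      show Fin.snoc (α := fun _ => PrimeSpectrum T) s.toFun Q (Fin.last s.length).castSucc ⋖ Fin.snoc (α := fun _ => PrimeSpectrum T) s.toFun Q (Fin.last s.length).succ
      rw [Fin.snoc_castSucc, Fin.succ_last, Fin.snoc_last]
      rw [show s.toFun (Fin.last _) = P from hs2]
      exact h
    | cast i =>
      show Fin.snoc (α := fun _ => PrimeSpectrum T) s.toFun Q i.castSucc.castSucc ⋖ Fin.snoc (α := fun _ => PrimeSpectrum T) s.toFun Q i.castSucc.succ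
      rw [Fin.snoc_castSucc, ← Fin.castSucc_succ, Fin.snoc_castSucc]
      exact hsat i
  have hh0 : s'.head = s.head := by
    show Fin.snoc (α := fun _ => PrimeSpectrum T) s.toFun Q (Fin.castSucc 0) = _
    rw [Fin.snoc_castSucc]; rfl
  have hl0 : s'.last = Q := Fin.snoc_last (α := fun _ => PrimeSpectrum T) Q s.toFun
  have hlen := hcatT.2 s' t (by rw [hh0, hs1, ht1]) (by rw [hl0, ht2]) hs'
    (hmax Q t ht3 ht2)
  rw [← ht3, ← hs3, ← hlen]
  simp [s']

/-- A series above `P T` ending at a minimal prime over `Q T` is short when `P ⋖ Q`. -/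
theorem length_le_one {B T : Type u} [CommRing B] [IsNoetherianRing B] [CommRing T] [IsNoetherianRing T]
    [Algebra B T] {P Q : PrimeSpectrum B} (h : P ⋖ Q) {P' Q' : Ideal T} [P'.IsPrime] [Q'.IsPrime]
    (hPT : P.asIdeal.map (algebraMap B T) ≤ P') (hP'le : P' ≤ Q')
    (hQ'min : Q' ∈ (Q.asIdeal.map (algebraMap B T)).minimalPrimes) (hQ'over : Q'.comap (algebraMap B T) = Q.asIdeal)
    (s : LTSeries (PrimeSpectrum T)) (hs1 : s.head = ⟨P', inferInstance⟩) (hs2 : s.last = ⟨Q', inferInstance⟩) :
    s.length ≤ 1 := by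
  let J := P.asIdeal.map (algebraMap B T)
  have hJ : ∀ i, J ≤ (s i).asIdeal := fun i => hPT.trans
    (show (⟨P', inferInstance⟩ : PrimeSpectrum T) ≤ s i from hs1 ▸ s.monotone (Fin.zero_le i))
  have hpr : ∀ i, ((s i).asIdeal.map (Ideal.Quotient.mk J)).IsPrime := fun i =>
    Ideal.map_isPrime_of_surjective Ideal.Quotient.mk_surjective (by rw [Ideal.mk_ker]; exact hJ i)
  have hback : ∀ i, ((s i).asIdeal.map (Ideal.Quotient.mk J)).comap (Ideal.Quotient.mk J) = (s i).asIdeal :=
    fun i => by rw [Ideal.comap_map_of_surjective' _ Ideal.Quotient.mk_surjective, Ideal.mk_ker,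
      sup_eq_left.mpr (hJ i)]
  let u : LTSeries (PrimeSpectrum (T ⧸ J)) := LTSeries.mk s.length (fun i => ⟨_, hpr i⟩)
    fun i j hij => lt_of_le_of_ne (Ideal.map_mono (s.monotone hij.le)) fun he => by
      have := congrArg (fun z : PrimeSpectrum (T ⧸ J) => z.asIdeal.comap (Ideal.Quotient.mk J)) he
      simp only [hback] at this
      exact (s.strictMono hij).ne (PrimeSpectrum.ext this)
  have hQJ : Q'.map (Ideal.Quotient.mk J) = u.last.asIdeal :=
    congrArg (fun z : PrimeSpectrum T => z.asIdeal.map (Ideal.Quotient.mk J)) hs2.symm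
  have : (Q'.map (Ideal.Quotient.mk J)).IsPrime := hQJ ▸ u.last.2
  have h1 : (u.length : ℕ∞) ≤ (Q'.map (Ideal.Quotient.mk J)).height := by
    rw [hQJ, u.last.height_eq_orderHeight]
    exact Order.length_le_height_last
  have h2 : (Q'.map (Ideal.Quotient.mk J)).height ≤ 1 := by
    obtain ⟨a, haQ, haP⟩ := SetLike.exists_of_lt (show P.asIdeal < Q.asIdeal from h.lt)
    let x : T ⧸ J := Ideal.Quotient.mk J (algebraMap B T a)
    have hx : x ∈ Q'.map (Ideal.Quotient.mk J) := Ideal.mem_map_of_mem _ (hQ'min.1.2 (Ideal.mem_map_of_mem _ haQ))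
    refine Ideal.height_le_one_of_isPrincipal_of_mem_minimalPrimes (Ideal.span {x}) _
      ⟨⟨inferInstance, (Ideal.span_singleton_le_iff_mem _).mpr hx⟩, fun z ⟨hz, hxz⟩ hzy => ?_⟩
    have hzq : z.comap (Ideal.Quotient.mk J) ≤ Q' := by
      refine (Ideal.comap_mono hzy).trans ?_
      rw [Ideal.comap_map_of_surjective' _ Ideal.Quotient.mk_surjective, Ideal.mk_ker, sup_eq_left.mpr (hPT.trans hP'le)]
    let W : PrimeSpectrum B := PrimeSpectrum.comap ((Ideal.Quotient.mk J).comp (algebraMap B T)) ⟨z, hz⟩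
    have hPW : P ≤ W := fun b hb => by
      show Ideal.Quotient.mk J (algebraMap B T b) ∈ z
      rw [Ideal.Quotient.eq_zero_iff_mem.mpr (show algebraMap B T b ∈ J from Ideal.mem_map_of_mem _ hb)]
      exact zero_mem _
    have hWQ : W ≤ Q := fun b hb => by
      rw [← hQ'over]
      exact hzq hb
    have hPW' : P < W := lt_of_le_not_ge hPW fun hle => haP (hle (show a ∈ W.asIdeal from (Ideal.span_singleton_le_iff_mem z).mp hxz))
    have hWeq : W = Q := hWQ.eq_of_not_lt fun hlt => h.2 hPW' hlt
    rw [Ideal.map_le_iff_le_comap]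
    refine hQ'min.2 ⟨inferInstance, Ideal.map_le_iff_le_comap.mpr ?_⟩ hzq
    rw [← hWeq]
    exact le_rfl
  exact_mod_cast (h1.trans h2 : ((s.length : ℕ∞)) ≤ 1)

/-- A minimal prime over the extension of `x` has the height of `x` under going down. -/
theorem height_eq_of_minimal {B T : Type u} [CommRing B] [IsNoetherianRing B] [CommRing T] [IsNoetherianRing T]
    [Algebra B T] [Algebra.HasGoingDown B T] (x : PrimeSpectrum B) (y : Ideal T) [y.IsPrime]
    (hy : y ∈ (x.asIdeal.map (algebraMap B T)).minimalPrimes) (hov : y.comap (algebraMap B T) = x.asIdeal) :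
    y.height = x.asIdeal.height := by
  have : y.LiesOver x.asIdeal := ⟨hov.symm⟩
  rw [Ideal.height_eq_height_add_of_liesOver_of_hasGoingDown x.asIdeal y]
  suffices h0 : (y.map (Ideal.Quotient.mk (x.asIdeal.map (algebraMap B T)))).height = 0 by rw [h0, add_zero]
  have := Ideal.map_isPrime_of_surjective (I := y) (f := Ideal.Quotient.mk (x.asIdeal.map (algebraMap B T)))
    Ideal.Quotient.mk_surjective (by rw [Ideal.mk_ker]; exact hy.1.2)
  rw [Ideal.height_eq_zero_iff]
  refine ⟨⟨this, bot_le⟩, fun z ⟨hz, _⟩ hzy => ?_⟩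
  have h1 : z.comap (Ideal.Quotient.mk (x.asIdeal.map (algebraMap B T))) ≤ y := by
    refine (Ideal.comap_mono hzy).trans ?_
    rw [Ideal.comap_map_of_surjective' _ Ideal.Quotient.mk_surjective, Ideal.mk_ker, sup_eq_left.mpr hy.1.2]
  have h2 := hy.2 ⟨Ideal.comap_isPrime _ z, fun a ha => Ideal.mem_comap.mpr (by
    rw [Ideal.Quotient.eq_zero_iff_mem.mpr ha]; exact zero_mem _)⟩ h1
  rw [Ideal.map_le_iff_le_comap]
  exact h2

attribute [local instance] MvPolynomial.algebraMvPolynomial in
/-- Descent to polynomials over a formally equidimensional local ring. -/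
theorem height_covBy_of_isFormallyEquidim (R : Type u) [CommRing R] [IsLocalRing R] [IsNoetherianRing R]
    (hR : EGA4.IsFormallyEquidim R) (n : ℕ) (P Q : PrimeSpectrum (MvPolynomial (Fin n) R)) (h : P ⋖ Q) :
    Q.asIdeal.height = P.asIdeal.height + 1 := by
  let C := AdicCompletion (maximalIdeal R) R
  have : IsNoetherianRing C := RegLoc.Completion.isNoetherianRing_adicCompletion' _
  have : IsAdicComplete (maximalIdeal C) C := inferInstance
  have hC := (EGA4Lib.isExcellent_of_isAdicComplete C).2.1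
  have hcat : CAlg.IsCatenary C := hC.2 C inferInstance
  have hcatT : CAlg.IsCatenary (MvPolynomial (Fin n) C) := hC.2 _ inferInstance
  let B := MvPolynomial (Fin n) R
  let T := MvPolynomial (Fin n) C
  have : Module.Flat B T :=
    Module.Flat.isBaseChange R B C T (Algebra.IsPushout.out (R := R) (S := B) (R' := C))
  have : Module.FaithfullyFlat R C := Module.FaithfullyFlat.of_flat_of_isLocalHom
  have hsurj : Function.Surjective (PrimeSpectrum.comap (algebraMap B T)) := by
    have : Module.FaithfullyFlat B T :=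
      Module.FaithfullyFlat.of_linearEquiv B (TensorProduct R B C)
        (Algebra.IsPushout.equiv R B C T).toLinearEquiv.symm
    exact PrimeSpectrum.comap_surjective_of_faithfullyFlat
  obtain ⟨Q', hQ'min, hQ'over⟩ : ∃ Q' : Ideal T, Q' ∈ (Q.asIdeal.map (algebraMap B T)).minimalPrimes ∧
      Q'.comap (algebraMap B T) = Q.asIdeal := by
    obtain ⟨x, hx⟩ := hsurj Q
    have hx' : x.asIdeal.comap (algebraMap B T) = Q.asIdeal := congrArg PrimeSpectrum.asIdeal hx
    obtain ⟨Q', h1, h2⟩ := Ideal.exists_minimalPrimes_le (I := Q.asIdeal.map (algebraMap B T)) (J := x.asIdeal)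
      (by rw [Ideal.map_le_iff_le_comap, hx'])
    exact ⟨Q', h1, le_antisymm ((Ideal.comap_mono h2).trans hx'.le) (Ideal.map_le_iff_le_comap.mp h1.1.2)⟩
  have : Q'.IsPrime := hQ'min.1.1
  obtain ⟨P', hP'min, hP'le⟩ := Ideal.exists_minimalPrimes_le (I := P.asIdeal.map (algebraMap B T)) (J := Q')
    (by rw [Ideal.map_le_iff_le_comap, hQ'over]; exact h.le)
  have : P'.IsPrime := hP'min.1.1
  have hP'over : P'.comap (algebraMap B T) = P.asIdeal := by
    refine le_antisymm ?_ (Ideal.map_le_iff_le_comap.mp hP'min.1.2)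
    obtain ⟨P'', hle, hP'', hlo⟩ := Ideal.exists_ideal_le_liesOver_of_le (p := P.asIdeal)
      (q := P'.under B) P' (Ideal.map_le_iff_le_comap.mp hP'min.1.2)
    have h2 := hP'min.2 ⟨hP'', Ideal.map_le_iff_le_comap.mpr hlo.over.le⟩ hle
    exact (Ideal.comap_mono h2).trans hlo.over.ge
  -- heights
  rw [← height_eq_of_minimal Q Q' hQ'min hQ'over, ← height_eq_of_minimal P P' hP'min hP'over]
  obtain ⟨s, hs1, hs2, hs3⟩ := exists_saturated (P := PrimeSpectrum T) hcatT
    (show (⟨P', inferInstance⟩ : PrimeSpectrum T) ≤ ⟨Q', inferInstance⟩ from hP'le)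
  have hrank : ∀ a b : PrimeSpectrum T, a ⋖ b →
      ((b.asIdeal.height).toNat : ℤ) = (a.asIdeal.height).toNat + 1 := fun a b hab => by
    rw [height_covBy_polynomial hcat n hcatT hR a b hab,
      ENat.toNat_add (Ideal.height_ne_top a.2.ne_top) ENat.one_ne_top]
    simp
  have hlen := length_eq_rank_sub _ hrank s hs3
  rw [hs1, hs2] at hlen
  -- the series has length at most one
  have hle1 : s.length ≤ 1 := length_le_one h hP'min.1.2 hP'le hQ'min hQ'over s hs1 hs2
  have hne : P' ≠ Q' := fun he => h.lt.ne (PrimeSpectrum.ext (by rw [← hP'over, ← hQ'over, he]))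
  have hlenpos : s.length ≠ 0 := fun h0 => hne (by
    have : s.head = s.last := by
      show s 0 = s (Fin.last _)
      congr 1
      ext; simp [h0]
    rw [hs1, hs2] at this
    exact congrArg PrimeSpectrum.asIdeal this)
  have e := hlen
  rw [show s.length = 1 by omega] at e
  rw [← ENat.natCast_toNat (Ideal.height_ne_top (I := Q') (Ideal.IsPrime.ne_top inferInstance)),
    ← ENat.natCast_toNat (Ideal.height_ne_top (I := P') (Ideal.IsPrime.ne_top inferInstance))]
  have e2 : Q'.height.toNat = P'.height.toNat + 1 := by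
    simp only at e
    omega
  rw [e2]
  rfl

/-- Formally catenary implies universally catenary. -/
theorem isUniversallyCatenary {A : Type u} [CommRing A] [IsNoetherianRing A] [IsLocalRing A]
    (hA : EGA4.IsFormallyCatenary A) : CAlg.IsUniversallyCatenary A := by
  refine ⟨inferInstance, fun S _ _ hS => ?_⟩
  obtain ⟨n, f, hf⟩ := Algebra.FiniteType.iff_quotient_mvPolynomial''.mp hS
  refine PtTop.Catenary.isCatenary_of_surjective f.toRingHom hf ((cat_iff_isCatenary _).mpr (cat_of_cover ?_))
  intro P Q hPQ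
  let p := P.asIdeal.comap (MvPolynomial.C : A →+* MvPolynomial (Fin n) A)
  have : IsLocalRing (A ⧸ p) := IsLocalRing.of_surjective' (Ideal.Quotient.mk p) Ideal.Quotient.mk_surjective
  let π : MvPolynomial (Fin n) A →+* MvPolynomial (Fin n) (A ⧸ p) := MvPolynomial.map (Ideal.Quotient.mk p)
  have hπ : Function.Surjective π := MvPolynomial.map_surjective _ Ideal.Quotient.mk_surjective
  have hker : RingHom.ker π ≤ P.asIdeal := by
    rw [MvPolynomial.ker_map, Ideal.mk_ker, Ideal.map_le_iff_le_comap]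
  have hrange : Set.range (PrimeSpectrum.comap π) = PrimeSpectrum.zeroLocus (RingHom.ker π) :=
    range_comap_of_surjective _ π hπ
  refine ⟨PrimeSpectrum (MvPolynomial (Fin n) (A ⧸ p)), inferInstance,
    OrderEmbedding.ofMapLEIff (PrimeSpectrum.comap π) (fun a b => ?_), ?_, ?_, ?_, ?_⟩
  · exact ⟨fun h => by
      have := Ideal.map_mono (f := π) h
      rwa [PrimeSpectrum.comap_asIdeal, PrimeSpectrum.comap_asIdeal, Ideal.map_comap_of_surjective _ hπ,
        Ideal.map_comap_of_surjective _ hπ] at this, fun h => Ideal.comap_mono h⟩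
  · rw [OrderEmbedding.coe_ofMapLEIff, hrange]
    exact ⟨fun a ha _ _ z hz => fun r hr => hz.1 (ha hr)⟩
  · rw [OrderEmbedding.coe_ofMapLEIff, hrange]
    exact hker
  · rw [OrderEmbedding.coe_ofMapLEIff, hrange]
    exact hker.trans hPQ
  · refine cat_of_rank _ CMCat.height_strictMono fun a b hab => ?_
    rw [height_covBy_of_isFormallyEquidim (A ⧸ p) (hA p) n a b hab,
      ENat.toNat_add (Ideal.height_ne_top a.2.ne_top) ENat.one_ne_top]
    simp

end Groth.Agent.Catenary61
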